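import Groth.Agent.MeroReg.Basic
import Groth.Agent.AssPtX.Regular
import Groth.Agent.ProjUPX.Affine

/-!
Regular meromorphic sections from their values at weakly associated points.
-/

set_option autoImplicit false
set_option backward.isDefEq.respectTransparency false
set_option backward.isDefEq.respectTransparency.types false
set_option linter.style.haveILetI false

universe u

open CategoryTheory AlgebraicGeometry TopologicalSpace Opposite

namespace Groth.Agent.MeroReg

open Groth.Agent.InvX Groth.Agent.DivX Groth.Agent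

variable {X : Scheme.{u}} {L : X.Modules}

theorem eq_zero_of_weakAss {U : X.Opens} (a : Γ(X, U))
    (h : ∀ (y : X) (hy : y ∈ U), Curv2.IsWeakAssPoint (Coh.structureModule X) y →
      X.presheaf.germ U y hy a = 0) : a = 0 := by
  refine AssPtX.eq_zero_of_germ (F := Coh.structureModule X) (U := U) QCoh.isQCoh_structureModule a
    fun y hy hya => ?_
  have h1 := h y hy hya
  obtain ⟨W, hyW, i, j, hW⟩ := TopCat.Presheaf.germ_eq X.presheaf y hy hy _ 0 (h1.trans (map_zero _).symm)
  rw [map_zero] at hW
  rw [← (Coh.structureModule X).presheaf.germ_res_apply i y hyW]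
  exact (congrArg _ hW).trans (map_zero ((Coh.structureModule X).presheaf.germ W y hyW).hom)

/-- A fraction of regular sections as a unit of `K_X`. -/
theorem exists_unit {V : X.Opens} (a b : Mero.regSub X V) :
    ∃ h : (Γ(Mero.kmod X, V))ˣ, ∀ y : V, (h : Γ(Mero.kmod X, V)).1 y =
      (LocalizedModule.mk (X.presheaf.germ V y.1 y.2 a.1) (Mero.regGerm y b) : Mero.KStalk X y.1) := by
  let f : Γ(Mero.kmod X, V) := ⟨fun y => LocalizedModule.mk (X.presheaf.germ V y.1 y.2 a.1) (Mero.regGerm y b),
    fun y => ⟨V, y.2, 𝟙 _, a.1, b, fun _ => rfl⟩⟩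
  let f' : Γ(Mero.kmod X, V) := ⟨fun y => LocalizedModule.mk (X.presheaf.germ V y.1 y.2 b.1) (Mero.regGerm y a),
    fun y => ⟨V, y.2, 𝟙 _, b.1, a, fun _ => rfl⟩⟩
  have hff : f * f' = 1 := Subtype.ext (funext fun y => by
    show (LocalizedModule.mk (X.presheaf.germ V y.1 y.2 a.1) (Mero.regGerm y b) : Mero.KStalk X y.1) *
      LocalizedModule.mk (X.presheaf.germ V y.1 y.2 b.1) (Mero.regGerm y a) = 1
    refine LocalizedModule.mk_mul_mk.trans ?_
    rw [mul_comm (Mero.regGerm y b) (Mero.regGerm y a)]
    exact Mero.mk_self_eq_one (Mero.regGerm y a * Mero.regGerm y b))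
  exact ⟨⟨f, f', hff, by rw [mul_comm]; exact hff⟩, fun _ => rfl⟩

/-- Regular meromorphic sections with prescribed values `τ` at the weakly associated points. -/
theorem hasRegular_of_ratios
    (τ : ∀ z : X, Curv2.IsWeakAssPoint (Coh.structureModule X) z → L.presheaf.stalk z)
    (chart : ∀ x : X, ∃ (V : X.Opens) (_ : x ∈ V) (e : Γ(L, V)) (a b : Mero.regSub X V), IsFrame e ∧
      ∀ (z : X) (hz : z ∈ V) (hza : Curv2.IsWeakAssPoint (Coh.structureModule X) z),
        X.presheaf.germ V z hz a.1 • L.presheaf.germ V z hz e = X.presheaf.germ V z hz b.1 • τ z hza) :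
    Mero.HasRegularMero L := by
  choose V hV e a b he hab using chart
  choose h hh using fun x => exists_unit (a x) (b x)
  refine hasRegular_of_local V hV e he h fun x x' y hy hy' => ?_
  let T : X.Opens := V x ⊓ V x'
  obtain ⟨c, hc⟩ := (he x).exists_coord (inf_le_left : T ≤ V x) (AModX.res L inf_le_right (e x'))
  let i₁ : T ⟶ V x := homOfLE inf_le_left
  let i₂ : T ⟶ V x' := homOfLE inf_le_right
  have hzero : X.presheaf.map i₁.op (a x).1 * X.presheaf.map i₂.op (b x').1 -
      c * (X.presheaf.map i₂.op (a x').1 * X.presheaf.map i₁.op (b x).1) = 0 := by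
    refine eq_zero_of_weakAss _ fun z hz hza => ?_
    have hce : L.presheaf.germ (V x') z hz.2 (e x') =
        X.presheaf.germ T z hz c • L.presheaf.germ (V x) z hz.1 (e x) := by
      have h1 := congrArg (L.presheaf.germ T z hz) hc
      rw [Mero.germ_smul] at h1
      erw [L.presheaf.germ_res_apply, L.presheaf.germ_res_apply] at h1
      exact h1
    rw [map_sub, map_mul, map_mul, map_mul, X.presheaf.germ_res_apply, X.presheaf.germ_res_apply,
      X.presheaf.germ_res_apply, X.presheaf.germ_res_apply, sub_eq_zero]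
    refine ((he x).germ_bijective hz.1).1 ?_
    dsimp only
    have h1 := hab x z hz.1 hza
    have h2 := hab x' z hz.2 hza
    rw [hce] at h2
    rw [mul_comm, mul_smul, h1, smul_comm, ← h2]
    simp only [smul_smul]
    congr 1
    ring
  have h' := congrArg (X.presheaf.germ T y ⟨hy, hy'⟩) hzero
  rw [map_sub, map_zero, map_mul, map_mul, map_mul, X.presheaf.germ_res_apply, X.presheaf.germ_res_apply,
    X.presheaf.germ_res_apply, X.presheaf.germ_res_apply, sub_eq_zero] at h'
  have hce : mkM (e x') y hy' = algebraMap (X.presheaf.stalk y) (Mero.KStalk X y)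
      (X.presheaf.germ T y ⟨hy, hy'⟩ c) • mkM (e x) y hy := by
    have h1 := congrArg (fun t => mkM t y (⟨hy, hy'⟩ : y ∈ T)) hc
    simp only [mkM_smul, mkM_res] at h1
    exact h1
  rw [hce, ← mul_smul, hh x ⟨y, hy⟩, hh x' ⟨y, hy'⟩]
  congr 1
  show _ = (LocalizedModule.mk (X.presheaf.germ (V x') y hy' (a x').1) (Mero.regGerm ⟨y, hy'⟩ (b x')) : Mero.KStalk X y) *
    LocalizedModule.mk (X.presheaf.germ T y ⟨hy, hy'⟩ c) 1
  refine Eq.trans ?_ LocalizedModule.mk_mul_mk.symm
  refine LocalizedModule.mk_eq.2 ⟨1, ?_⟩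
  simp only [one_smul, mul_one, Submonoid.smul_def, smul_eq_mul]
  linear_combination h'

end Groth.Agent.MeroReg
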