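import Groth.Agent.DivX.MeroMod
import Groth.Agent.InvX.Frame

/-!
Regular meromorphic sections of invertible modules and divisors.
-/

set_option autoImplicit false
set_option backward.isDefEq.respectTransparency false
set_option backward.isDefEq.respectTransparency.types false
set_option linter.style.haveILetI false

universe u

open CategoryTheory AlgebraicGeometry TopologicalSpace Opposite

namespace Groth.Agent.MeroReg

open Groth.Agent.InvX Groth.Agent.DivX Groth.Agent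

variable {X : Scheme.{u}} {L : X.Modules}

/-- The value of a section in `S_y⁻¹ L_y`. -/
noncomputable def mkM {U : X.Opens} (e : Γ(L, U)) (y : X) (hy : y ∈ U) : Mero.MStalk L y :=
  LocalizedModule.mk (L.presheaf.germ U y hy e) 1

theorem mkM_res {U V : X.Opens} (h : V ≤ U) (e : Γ(L, U)) (y : X) (hy : y ∈ V) :
    mkM (AModX.res L h e) y hy = mkM e y (h hy) :=
  Mero.mk_congr (L.presheaf.germ_res_apply (homOfLE h) y hy e) rfl

theorem mkM_smul {U : X.Opens} (r : Γ(X, U)) (e : Γ(L, U)) (y : X) (hy : y ∈ U) :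
    mkM (r • e) y hy =
      algebraMap (X.presheaf.stalk y) (Mero.KStalk X y) (X.presheaf.germ U y hy r) • mkM e y hy := by
  rw [algebraMap_smul]
  exact ((LocalizedModule.smul'_mk _ _ _).trans (Mero.mk_congr (Mero.germ_smul L U y hy r e).symm rfl)).symm

theorem coord_inj {U : X.Opens} {e : Γ(L, U)} (he : IsFrame e) {y : X} (hy : y ∈ U) {q : Mero.KStalk X y}
    (h : q • mkM e y hy = 0) : q = 0 := by
  obtain ⟨⟨a, b⟩, hab⟩ := IsLocalization.surj (Mero.regStalk X y) q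
  have h1 : algebraMap (X.presheaf.stalk y) (Mero.KStalk X y) a • mkM e y hy = 0 := by
    rw [← hab, mul_comm, mul_smul, h, smul_zero]
  rw [algebraMap_smul, mkM, LocalizedModule.smul'_mk, ← LocalizedModule.zero_mk (1 : Mero.regStalk X y),
    LocalizedModule.mk_eq] at h1
  obtain ⟨c, hc⟩ := h1
  simp only [one_smul, smul_zero, Submonoid.smul_def] at hc
  rw [← mul_smul] at hc
  have h2 : (c : X.presheaf.stalk y) * a = 0 :=
    (he.germ_bijective hy).1 (hc.trans (zero_smul _ _).symm)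
  have h3 : a = 0 := (mul_left_mem_nonZeroDivisors_eq_zero_iff (Mero.regStalk_le_nonZeroDivisors y c.2)).mp h2
  rw [h3, map_zero] at hab
  exact (IsLocalization.map_units (Mero.KStalk X y) b).mul_left_eq_zero.mp hab

theorem coord_unique {U : X.Opens} {e : Γ(L, U)} (he : IsFrame e) {y : X} (hy : y ∈ U) {q q' : Mero.KStalk X y}
    (h : q • mkM e y hy = q' • mkM e y hy) : q = q' :=
  sub_eq_zero.mp (coord_inj he hy (by rw [sub_smul, h, sub_self]))

/-- A frame trivialising a meromorphic section as a unit multiple. -/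
def IsChart (s : Γ(Mero.merMod L, ⊤)) {U : X.Opens} (e : Γ(L, U)) (h : (Γ(Mero.kmod X, U))ˣ) : Prop :=
  IsFrame e ∧ ∀ y : U, s.1 ⟨y.1, trivial⟩ = (h : Γ(Mero.kmod X, U)).1 y • mkM e y.1 y.2

theorem exists_chart (hL : PicF.IsInvertible L) (s : Γ(Mero.merMod L, ⊤)) (hs : Mero.IsRegularMero L s) (x : X) :
    ∃ (U : X.Opens) (_ : x ∈ U) (e : Γ(L, U)) (h : (Γ(Mero.kmod X, U))ˣ), IsChart s e h := by
  obtain ⟨W, hxW, i, m, b, hmb⟩ := s.2 ⟨x, trivial⟩
  obtain ⟨U₀, hxU₀, e₀, he₀⟩ := exists_frame hL x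
  let U : X.Opens := W ⊓ U₀
  let e : Γ(L, U) := AModX.res L inf_le_right e₀
  have he : IsFrame e := he₀.res _
  obtain ⟨a, ha⟩ := he₀.exists_coord (inf_le_right : U ≤ U₀) (AModX.res L inf_le_left m)
  let b' : Mero.regSub X U := ⟨AModX.resR (inf_le_left : U ≤ W) b.1, Mero.regSub_res _ b.2⟩
  have hval : ∀ (y : X) (hy : y ∈ U), s.1 ⟨y, trivial⟩ =
      (LocalizedModule.mk (X.presheaf.germ U y hy a) (Mero.regGerm ⟨y, hy⟩ b') : Mero.KStalk X y) •
        mkM e y hy := by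
    intro y hy
    refine (hmb ⟨y, hy.1⟩).trans ?_
    show _ = (Localization.mk (X.presheaf.germ U y hy a) (Mero.regGerm ⟨y, hy⟩ b') : Mero.KStalk X y) • mkM e y hy
    rw [mkM, LocalizedModule.mk_smul_mk, mul_one]
    refine Mero.mk_congr ?_ (X.presheaf.germ_res_apply (homOfLE (inf_le_left : U ≤ W)) y hy b.1).symm
    rw [← Mero.germ_smul, show a • e = AModX.res L (inf_le_left : U ≤ W) m from ha.symm]
    exact (L.presheaf.germ_res_apply (homOfLE (inf_le_left : U ≤ W)) y hy m).symm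
  have hareg : a ∈ Mero.regSub X U := fun y => by
    rw [mem_nonZeroDivisors_iff_right]
    intro c hc
    have h0 : algebraMap (X.presheaf.stalk y.1) (Mero.KStalk X y.1) c •
        s.1 ⟨y.1, trivial⟩ = 0 := by
      rw [hval y.1 y.2, ← mul_smul]
      have : algebraMap (X.presheaf.stalk y.1) (Mero.KStalk X y.1) c *
          (LocalizedModule.mk (X.presheaf.germ U y.1 y.2 a) (Mero.regGerm y b') : Mero.KStalk X y.1) = 0 := by
        change (LocalizedModule.mk c 1 : Mero.KStalk X y.1) * _ = 0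
        refine LocalizedModule.mk_mul_mk.trans ?_
        rw [hc, LocalizedModule.zero_mk]
      rw [this, zero_smul]
    have h1 := hs y.1 _ h0
    exact Mero.algebraMap_KStalk_injective y.1 (h1.trans (map_zero _).symm)
  let av : Mero.regSub X U := ⟨a, hareg⟩
  let f : Γ(Mero.kmod X, U) := ⟨fun y => LocalizedModule.mk (X.presheaf.germ U y.1 y.2 a) (Mero.regGerm y b'),
    fun y => ⟨U, y.2, 𝟙 _, a, b', fun _ => rfl⟩⟩
  let f' : Γ(Mero.kmod X, U) := ⟨fun y => LocalizedModule.mk (X.presheaf.germ U y.1 y.2 b'.1) (Mero.regGerm y av),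
    fun y => ⟨U, y.2, 𝟙 _, b'.1, av, fun _ => rfl⟩⟩
  have hff : f * f' = 1 := Subtype.ext (funext fun y => by
    show (LocalizedModule.mk (X.presheaf.germ U y.1 y.2 a) (Mero.regGerm y b') : Mero.KStalk X y.1) *
      LocalizedModule.mk (X.presheaf.germ U y.1 y.2 b'.1) (Mero.regGerm y av) = 1
    refine LocalizedModule.mk_mul_mk.trans ?_
    rw [mul_comm (Mero.regGerm y b') (Mero.regGerm y av)]
    exact Mero.mk_self_eq_one (Mero.regGerm y av * Mero.regGerm y b'))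
  exact ⟨U, ⟨hxW, hxU₀⟩, e, ⟨f, f', hff, by rw [mul_comm]; exact hff⟩, he, fun y => hval y.1 y.2⟩

theorem regular_of_charts (s : Γ(Mero.merMod L, ⊤))
    (hc : ∀ x : X, ∃ (U : X.Opens) (_ : x ∈ U) (e : Γ(L, U)) (h : (Γ(Mero.kmod X, U))ˣ), IsChart s e h) :
    Mero.IsRegularMero L s := by
  intro x q hq
  obtain ⟨U, hx, e, h, he, hval⟩ := hc x
  rw [hval ⟨x, hx⟩, ← mul_smul] at hq
  exact ((h.isUnit.map (Mero.evalK X U ⟨x, hx⟩)).mul_left_eq_zero).mp (coord_inj he hx hq)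

/-- Regular meromorphic sections glue from compatible local data. -/
theorem hasRegular_of_local (U : X → X.Opens) (hU : ∀ x, x ∈ U x) (e : ∀ x, Γ(L, U x))
    (he : ∀ x, IsFrame (e x)) (h : ∀ x, (Γ(Mero.kmod X, U x))ˣ)
    (agree : ∀ (x x' y : X) (hy : y ∈ U x) (hy' : y ∈ U x'),
      (h x : Γ(Mero.kmod X, U x)).1 ⟨y, hy⟩ • mkM (e x) y hy =
        (h x' : Γ(Mero.kmod X, U x')).1 ⟨y, hy'⟩ • mkM (e x') y hy') :
    Mero.HasRegularMero L := by
  let val : ∀ y : (⊤ : X.Opens), Mero.MStalk L y.1 := fun y =>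
    (h y.1 : Γ(Mero.kmod X, U y.1)).1 ⟨y.1, hU y.1⟩ • mkM (e y.1) y.1 (hU y.1)
  have hpred : (Mero.mLoc L).pred val := fun x => by
    obtain ⟨W, hxW, i, a, b, hab⟩ := (h x.1 : Γ(Mero.kmod X, U x.1)).2 ⟨x.1, hU x.1⟩
    refine ⟨W, hxW, homOfLE le_top, a • AModX.res L i.le (e x.1), b, fun y => ?_⟩
    show val ⟨y.1, trivial⟩ = _
    refine (agree y.1 x.1 y.1 (hU y.1) (i.le y.2)).trans ?_
    rw [show (h x.1 : Γ(Mero.kmod X, U x.1)).1 ⟨y.1, i.le y.2⟩ = _ from hab y]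
    show (Localization.mk (X.presheaf.germ W y.1 y.2 a) (Mero.regGerm y b) : Mero.KStalk X y.1) •
      mkM (e x.1) y.1 (i.le y.2) = _
    rw [mkM, LocalizedModule.mk_smul_mk, mul_one]
    refine Mero.mk_congr ?_ rfl
    rw [Mero.germ_smul]
    exact congrArg _ (L.presheaf.germ_res_apply (homOfLE i.le) y.1 y.2 (e x.1)).symm
  exact ⟨⟨val, hpred⟩, regular_of_charts ⟨val, hpred⟩ fun x =>
    ⟨U x, hU x, e x, h x, he x, fun y => agree y.1 x y.1 (hU y.1) y.2⟩⟩

theorem exists_iso_divMod (hL : PicF.IsInvertible L) (s : Γ(Mero.merMod L, ⊤)) (hs : Mero.IsRegularMero L s) :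
    ∃ D : Mero.Divisor X, Nonempty (L ≅ Mero.divMod D) := by
  choose U hU e h hch using exists_chart hL s hs
  let g : ∀ x : X, Mero.Germ X x := fun x => Mero.germOf (h x) ⟨x, hU x⟩
  have hg : ∀ (x : X) (y : U x), g y.1 = Mero.germOf (h x) y := by
    intro x y
    obtain ⟨c, hc⟩ := ((hch x).1.germ_bijective y.2).2 (L.presheaf.germ (U y.1) y.1 (hU y.1) (e y.1))
    obtain ⟨c', hc'⟩ := ((hch y.1).1.germ_bijective (hU y.1)).2 (L.presheaf.germ (U x) y.1 y.2 (e x))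
    dsimp only at hc hc'
    have hcc : c' * c = 1 := ((hch x).1.germ_bijective y.2).1 (by
      dsimp only
      rw [mul_smul, hc, hc', one_smul])
    let cu : (X.presheaf.stalk y.1)ˣ := ⟨c, c', by rw [mul_comm]; exact hcc, hcc⟩
    have hk : (h x : Γ(Mero.kmod X, U x)).1 y =
        (h y.1 : Γ(Mero.kmod X, U y.1)).1 ⟨y.1, hU y.1⟩ *
          algebraMap (X.presheaf.stalk y.1) (Mero.KStalk X y.1) c := by
      refine coord_unique (hch x).1 y.2 (((hch x).2 y).symm.trans (((hch y.1).2 ⟨y.1, hU y.1⟩).trans ?_))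
      rw [mul_smul, algebraMap_smul]
      congr 1
      rw [mkM, mkM, LocalizedModule.smul'_mk, hc]
    show QuotientGroup.mk _ = QuotientGroup.mk _
    rw [QuotientGroup.eq]
    refine ⟨cu, ?_⟩
    rw [eq_inv_mul_iff_mul_eq]
    exact Units.ext hk.symm
  let D : Mero.Divisor X := ⟨g, fun x => ⟨U x, hU x, h x, hg x⟩⟩
  have hD : ∀ (x : X) (y : U x), D.1 y.1 = Mero.germOf (h x) y := hg
  have hc : ∀ (a b : X) (W : X.Opens) (ha : W ≤ U a) (hb : W ≤ U b) (r : Γ(X, W)),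
      AModX.res L hb (e b) = r • AModX.res L ha (e a) →
      AModX.res (Mero.divMod D) hb (gen (h b) (hD b)) = r • AModX.res (Mero.divMod D) ha (gen (h a) (hD a)) := by
    intro a b W ha hb r hr
    refine Subtype.ext (funext fun y => ?_)
    show (((h b)⁻¹ : (Γ(Mero.kmod X, U b))ˣ) : Γ(Mero.kmod X, U b)).1 ⟨y.1, hb y.2⟩ =
      X.presheaf.germ W y.1 y.2 r • (((h a)⁻¹ : (Γ(Mero.kmod X, U a))ˣ) : Γ(Mero.kmod X, U a)).1 ⟨y.1, ha y.2⟩
    rw [Algebra.smul_def]
    have h1 := congrArg (fun t => mkM t y.1 y.2) hr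
    simp only [mkM_smul, mkM_res] at h1
    have h2 : (h a : Γ(Mero.kmod X, U a)).1 ⟨y.1, ha y.2⟩ = (h b : Γ(Mero.kmod X, U b)).1 ⟨y.1, hb y.2⟩ *
        algebraMap (X.presheaf.stalk y.1) (Mero.KStalk X y.1) (X.presheaf.germ W y.1 y.2 r) := by
      refine coord_unique (hch a).1 (ha y.2) (((hch a).2 ⟨y.1, ha y.2⟩).symm.trans
        (((hch b).2 ⟨y.1, hb y.2⟩).trans ?_))
      rw [mul_smul, h1]
    have ea := unit_val_mul (h a) ⟨y.1, ha y.2⟩
    have eb := unit_val_mul (h b) ⟨y.1, hb y.2⟩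
    rw [h2] at ea
    linear_combination (-((((h b)⁻¹ : (Γ(Mero.kmod X, U b))ˣ) : Γ(Mero.kmod X, U b)).1 ⟨y.1, hb y.2⟩)) * ea +
      algebraMap (X.presheaf.stalk y.1) (Mero.KStalk X y.1) (X.presheaf.germ W y.1 y.2 r) *
        (((h a)⁻¹ : (Γ(Mero.kmod X, U a))ˣ) : Γ(Mero.kmod X, U a)).1 ⟨y.1, ha y.2⟩ * eb
  let φ : L ⟶ Mero.divMod D := ofFrames (U := U) (e := e) (n := fun x => gen (h x) (hD x))
    (fun x => ⟨x, hU x⟩) (fun x => (hch x).1) hc
  haveI : IsIso φ := isIso_of_frames φ fun x => ⟨U x, hU x, e x, (hch x).1, by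
    rw [show φ.app (U x) (e x) = gen (h x) (hD x) from ofFrames_app (n := fun x => gen (h x) (hD x)) _ _ hc x]
    exact isFrame_gen _ _⟩
  exact ⟨D, ⟨asIso φ⟩⟩

theorem hasRegular_of_iso (D : Mero.Divisor X) (φ : L ≅ Mero.divMod D) : Mero.HasRegularMero L := by
  choose U hU f hD hfr using exists_gen_frame D
  let e : ∀ x, Γ(L, U x) := fun x => φ.inv.app (U x) (gen (f x) (hD x))
  have hφ : ∀ x, φ.hom.app (U x) (e x) = gen (f x) (hD x) := fun x =>
    congrArg (fun ψ : Mero.divMod D ⟶ Mero.divMod D => ψ.app (U x) (gen (f x) (hD x))) φ.inv_hom_id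
  have hinv : ∀ V, Function.Bijective (φ.inv.app V) := fun V =>
    (ConcreteCategory.isIso_iff_bijective _).1 (Scheme.Modules.Hom.isIso_iff_isIso_app.1 inferInstance V)
  have he : ∀ x, IsFrame (e x) := fun x V hV => by
    have : (fun r : Γ(X, V) => r • AModX.res L hV (e x)) =
        (φ.inv.app V) ∘ fun r : Γ(X, V) => r • AModX.res (Mero.divMod D) hV (gen (f x) (hD x)) :=
      funext fun r => by
        show _ = φ.inv.app V _
        rw [Scheme.Modules.Hom.app_smul, AModX.app_res]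
    rw [this]
    exact (hinv V).comp (hfr x V hV)
  refine hasRegular_of_local U hU e he f fun x x' y hy hy' => ?_
  let W : X.Opens := U x ⊓ U x'
  obtain ⟨r, hr⟩ := (he x).exists_coord (inf_le_left : W ≤ U x) (AModX.res L inf_le_right (e x'))
  have hgr := congrArg (φ.hom.app W) hr
  rw [Scheme.Modules.Hom.app_smul, AModX.app_res, AModX.app_res, hφ, hφ] at hgr
  have hv : (((f x')⁻¹ : (Γ(Mero.kmod X, U x'))ˣ) : Γ(Mero.kmod X, U x')).1 ⟨y, hy'⟩ =
      algebraMap (X.presheaf.stalk y) (Mero.KStalk X y) (X.presheaf.germ W y ⟨hy, hy'⟩ r) *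
        (((f x)⁻¹ : (Γ(Mero.kmod X, U x))ˣ) : Γ(Mero.kmod X, U x)).1 ⟨y, hy⟩ := by
    refine (congrArg (fun t : Γ(Mero.divMod D, W) => t.1 ⟨y, ⟨hy, hy'⟩⟩) hgr).trans ?_
    rw [← Algebra.smul_def]
    rfl
  have h1 := congrArg (fun t => mkM t y (⟨hy, hy'⟩ : y ∈ W)) hr
  simp only [mkM_smul, mkM_res] at h1
  rw [h1, ← mul_smul]
  congr 1
  have ea := unit_val_mul (f x) ⟨y, hy⟩
  have eb := unit_val_mul (f x') ⟨y, hy'⟩
  rw [hv] at eb
  linear_combination ((f x : Γ(Mero.kmod X, U x)).1 ⟨y, hy⟩) * (-1 : Mero.KStalk X y) * eb +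
    (algebraMap (X.presheaf.stalk y) (Mero.KStalk X y) (X.presheaf.germ W y ⟨hy, hy'⟩ r) *
      (f x' : Γ(Mero.kmod X, U x')).1 ⟨y, hy'⟩) * ea

end Groth.Agent.MeroReg
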